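import Mathlib

/-!
# Formal arcs on smooth algebras and their algebraisation through rational maps
-/

set_option autoImplicit false
set_option linter.style.haveILetI false

universe u

open scoped LaurentSeries PowerSeries TensorProduct Polynomial RatFunc

noncomputable section

namespace Groth.Agent.REqArc95

variable {k K : Type u} [Field k] [Field K] [Algebra k K]

/-- A formal arc through a given point of a standard smooth algebra, avoiding a given divisor. -/
theorem exists_arc [Infinite K] {B : Type u} [CommRing B] [IsDomain B] [Algebra k B]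
    (hstd : (algebraMap k B).IsStandardSmooth) (χ : B →ₐ[k] K) (f : B) (hf : f ≠ 0) :
    ∃ φ : B →ₐ[k] K⟦X⟧, (∀ b, PowerSeries.constantCoeff (φ b) = χ b) ∧ φ f ≠ 0 := by
  classical
  obtain ⟨n, g, hgC, hg⟩ := hstd.exists_etale_mvPolynomial
  letI : Algebra (MvPolynomial (Fin n) k) B := g.toAlgebra
  haveI : Algebra.Etale (MvPolynomial (Fin n) k) B := hg
  haveI : IsScalarTower k (MvPolynomial (Fin n) k) B := .of_algebraMap_eq' hgC.symm
  let Kf := FractionRing (MvPolynomial (Fin n) k)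
  haveI : Module.Finite Kf (Kf ⊗[(MvPolynomial (Fin n) k)] B) := Algebra.FormallyUnramified.finite_of_free Kf _
  have hinj : Function.Injective (Algebra.TensorProduct.includeRight : B →ₐ[(MvPolynomial (Fin n) k)] Kf ⊗[(MvPolynomial (Fin n) k)] B) :=
    Algebra.TensorProduct.includeRight_injective (IsFractionRing.injective (MvPolynomial (Fin n) k) Kf)
  have halg : IsAlgebraic (MvPolynomial (Fin n) k) f := by
    have h1 : IsAlgebraic Kf ((Algebra.TensorProduct.includeRight : B →ₐ[(MvPolynomial (Fin n) k)] Kf ⊗[(MvPolynomial (Fin n) k)] B) f) :=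
      (Algebra.IsIntegral.isIntegral _).isAlgebraic
    exact (isAlgebraic_algHom_iff _ hinj).mp
      ((IsFractionRing.isAlgebraic_iff (MvPolynomial (Fin n) k) Kf (Kf ⊗[(MvPolynomial (Fin n) k)] B)).mpr h1)
  obtain ⟨c₀, hc₀, hdvd⟩ := halg.exists_nonzero_dvd (mem_nonZeroDivisors_of_ne_zero hf)
  let α : Fin n → K := fun i => χ (g (MvPolynomial.X i))
  have hmap : MvPolynomial.map (algebraMap k K) c₀ ≠ 0 := fun h =>
    hc₀ (MvPolynomial.map_injective _ (algebraMap k K).injective (h.trans (map_zero _).symm))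
  obtain ⟨c, hc⟩ : ∃ c : Fin n → K, MvPolynomial.eval c (MvPolynomial.map (algebraMap k K) c₀) ≠ 0 := by
    by_contra! hall
    exact hmap (MvPolynomial.funext fun x => by rw [hall x, map_zero])
  let ev₀ : (MvPolynomial (Fin n) k) →ₐ[k] K[X] := MvPolynomial.aeval fun i =>
    Polynomial.C (α i) + Polynomial.C (c i - α i) * Polynomial.X
  have hev₀ : ev₀ c₀ ≠ 0 := by
    intro h
    have h1 : (Polynomial.evalRingHom (1 : K)).comp ev₀.toRingHom =
        (MvPolynomial.eval c).comp (MvPolynomial.map (algebraMap k K)) := by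
      refine MvPolynomial.ringHom_ext (fun r => ?_) fun i => ?_
      · simp [ev₀, Polynomial.algebraMap_apply]
      · simp [ev₀]
    have h2 := RingHom.congr_fun h1 c₀
    simp only [RingHom.comp_apply, AlgHom.toRingHom_eq_coe, RingHom.coe_coe, h, map_zero] at h2
    exact hc h2.symm
  let ev : (MvPolynomial (Fin n) k) →ₐ[k] K⟦X⟧ := ((Polynomial.coeToPowerSeries.algHom K).restrictScalars k).comp ev₀
  have hev : ∀ p, ev p = ((ev₀ p : K[X]) : K⟦X⟧) := fun p => by
    simp [ev, Polynomial.coeToPowerSeries.algHom_apply]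
  have hconst : ∀ p, PowerSeries.constantCoeff (ev p) = χ (g p) := by
    have h1 : (PowerSeries.constantCoeff (R := K)).comp ev.toRingHom = χ.toRingHom.comp g := by
      refine MvPolynomial.ringHom_ext (fun r => ?_) fun i => ?_
      · have hgr : g (MvPolynomial.C r) = algebraMap k B r := DFunLike.congr_fun hgC r
        simp [hev, ev₀, hgr, Polynomial.algebraMap_apply]
      · simp [hev, ev₀, α]
    exact fun p => RingHom.congr_fun h1 p
  letI : Algebra (MvPolynomial (Fin n) k) K⟦X⟧ := ev.toRingHom.toAlgebra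
  haveI : IsScalarTower k (MvPolynomial (Fin n) k) K⟦X⟧ := .of_algebraMap_eq fun r => (ev.commutes r).symm
  let I : Ideal K⟦X⟧ := Ideal.span {PowerSeries.X}
  let τ : B →ₐ[(MvPolynomial (Fin n) k)] K⟦X⟧ ⧸ I :=
    { (Ideal.Quotient.mk I).comp ((PowerSeries.C (R := K)).comp χ.toRingHom) with
      commutes' := fun p => by
        show Ideal.Quotient.mk I (PowerSeries.C (χ (g p))) = Ideal.Quotient.mk I (ev p)
        rw [Ideal.Quotient.eq, Ideal.mem_span_singleton, PowerSeries.X_dvd_iff, map_sub, hconst]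
        simp }
  obtain ⟨φ, hφ⟩ := Algebra.FormallySmooth.exists_mkₐ_comp_eq_of_isAdicComplete τ
  refine ⟨φ.restrictScalars k, fun b => ?_, fun h => hev₀ ?_⟩
  · have h1 : Ideal.Quotient.mk I (φ b) = Ideal.Quotient.mk I (PowerSeries.C (χ b)) :=
      DFunLike.congr_fun hφ b
    rw [Ideal.Quotient.eq, Ideal.mem_span_singleton, PowerSeries.X_dvd_iff, map_sub, sub_eq_zero] at h1
    simpa using h1
  · have h1 := map_dvd φ hdvd
    rw [φ.commutes, show φ f = 0 from h, zero_dvd_iff] at h1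
    exact Polynomial.coe_eq_zero_iff.mp ((hev c₀).symm.trans h1)

/-! ### Approximation -/

/-- Divisible by the `e`-th power of the parameter. -/
def Small (e : ℤ) (z : K⸨X⸩) : Prop :=
  ∃ w : K⟦X⟧, z = HahnSeries.single e 1 * (w : K⸨X⸩)

theorem small_zero (e : ℤ) : Small e (0 : K⸨X⸩) := ⟨0, by simp⟩

theorem small_coe (w : K⟦X⟧) : Small 0 (w : K⸨X⸩) := ⟨w, by simp⟩

theorem Small.mono {e e' : ℤ} {z : K⸨X⸩} (h : Small e z) (he : e' ≤ e) : Small e' z := by
  obtain ⟨w, rfl⟩ := h
  obtain ⟨d, rfl⟩ := Int.le.dest he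
  refine ⟨PowerSeries.X ^ d * w, ?_⟩
  rw [map_mul, HahnSeries.ofPowerSeries_X_pow, ← mul_assoc, HahnSeries.single_mul_single, one_mul]

theorem Small.add {e : ℤ} {z z' : K⸨X⸩} (h : Small e z) (h' : Small e z') : Small e (z + z') := by
  obtain ⟨w, rfl⟩ := h
  obtain ⟨w', rfl⟩ := h'
  exact ⟨w + w', by rw [map_add, mul_add]⟩

theorem Small.neg {e : ℤ} {z : K⸨X⸩} (h : Small e z) : Small e (-z) := by
  obtain ⟨w, rfl⟩ := h
  exact ⟨-w, by rw [map_neg, mul_neg]⟩

theorem Small.mul {e e' : ℤ} {z z' : K⸨X⸩} (h : Small e z) (h' : Small e' z') :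
    Small (e + e') (z * z') := by
  obtain ⟨w, rfl⟩ := h
  obtain ⟨w', rfl⟩ := h'
  refine ⟨w * w', ?_⟩
  rw [map_mul, mul_mul_mul_comm, HahnSeries.single_mul_single, one_mul]

theorem exists_small (z : K⸨X⸩) : ∃ e, Small e z :=
  ⟨z.order, z.powerSeriesPart, (LaurentSeries.single_order_mul_powerSeriesPart z).symm⟩

theorem Small.constantCoeff_eq {a b : K⟦X⟧} (h : Small 1 ((a : K⸨X⸩) - (b : K⸨X⸩))) :
    PowerSeries.constantCoeff a = PowerSeries.constantCoeff b := by
  obtain ⟨w, hw⟩ := h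
  have h1 : a - b = PowerSeries.X * w := HahnSeries.ofPowerSeries_injective (Γ := ℤ) (R := K) (by
    rw [map_sub, map_mul, HahnSeries.ofPowerSeries_X]
    exact hw)
  have h2 := congrArg PowerSeries.constantCoeff h1
  simpa [sub_eq_zero] using h2

/-- Evaluations of polynomials are continuous. -/
theorem exists_congr {n : ℕ} (y : Fin n → K⸨X⸩) (P : MvPolynomial (Fin n) k) (e : ℤ) :
    ∃ N : ℤ, ∀ y' : Fin n → K⸨X⸩, (∀ i, Small N (y' i - y i)) →
      Small e (MvPolynomial.aeval y' P - MvPolynomial.aeval y P) := by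
  induction P using MvPolynomial.induction_on generalizing e with
  | C r => exact ⟨0, fun y' _ => by simpa using small_zero e⟩
  | add p q hp hq =>
    obtain ⟨N₁, h₁⟩ := hp e
    obtain ⟨N₂, h₂⟩ := hq e
    refine ⟨max N₁ N₂, fun y' hy' => ?_⟩
    have := (h₁ y' fun i => (hy' i).mono (le_max_left _ _)).add
      (h₂ y' fun i => (hy' i).mono (le_max_right _ _))
    simpa [add_sub_add_comm] using this
  | mul_X p i hp =>
    obtain ⟨m, hm⟩ := exists_small (y i)
    obtain ⟨l, hl⟩ := exists_small (MvPolynomial.aeval y p)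
    obtain ⟨N₁, h₁⟩ := hp (e - m)
    refine ⟨max (max N₁ m) (e - l), fun y' hy' => ?_⟩
    have hd := h₁ y' fun j => (hy' j).mono ((le_max_left _ _).trans (le_max_left _ _))
    have hy : Small m (y' i) := by
      have := ((hy' i).mono ((le_max_right _ _).trans (le_max_left _ _))).add hm
      simpa using this
    have h₂ := (hd.mul hy).mono (le_of_eq (by ring : e = e - m + m))
    have h₃ := (hl.mul ((hy' i).mono (le_max_right _ _))).mono (le_of_eq (by ring : e = l + (e - l)))
    convert! h₂.add h₃ using 1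
    simp only [map_mul, MvPolynomial.aeval_X]
    ring

theorem coe_poly (p : K[X]) : algebraMap (RatFunc K) K⸨X⸩ (algebraMap K[X] (RatFunc K) p) =
    ((p : K⟦X⟧) : K⸨X⸩) :=
  (RatFunc.coe_coe p).symm

theorem coe_algebraMap (c : k) :
    algebraMap (RatFunc K) K⸨X⸩ (algebraMap k (RatFunc K) c) = algebraMap k K⸨X⸩ c := by
  rw [IsScalarTower.algebraMap_apply k K[X] (RatFunc K), coe_poly, Polynomial.algebraMap_apply,
    Polynomial.coe_C, HahnSeries.algebraMap_apply', IsScalarTower.algebraMap_apply k K K⟦X⟧]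
  rfl

/-- Rational functions are dense. -/
theorem exists_ratFunc (z : K⸨X⸩) (N : ℤ) :
    ∃ r : RatFunc K, Small N (algebraMap (RatFunc K) K⸨X⸩ r - z) := by
  obtain ⟨m, w, rfl⟩ := exists_small z
  obtain ⟨d, hd⟩ : ∃ d : ℕ, N ≤ m + d := ⟨(N - m).toNat, by omega⟩
  obtain ⟨q, hq⟩ : PowerSeries.X ^ d ∣ w - ((PowerSeries.trunc d w : K[X]) : K⟦X⟧) :=
    PowerSeries.X_pow_dvd_iff.mpr fun i hi => by simp [PowerSeries.coeff_trunc, hi]
  refine ⟨(RatFunc.X : RatFunc K) ^ m * algebraMap K[X] (RatFunc K) (PowerSeries.trunc d w), ?_⟩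
  refine Small.mono ⟨-q, ?_⟩ hd
  rw [map_mul, map_zpow₀, RatFunc.coe_X, ← RatFunc.single_zpow, coe_poly,
    show ((PowerSeries.trunc d w : K[X]) : K⟦X⟧) = w - PowerSeries.X ^ d * q by rw [← hq]; ring,
    map_sub, map_mul, map_neg, HahnSeries.ofPowerSeries_X_pow, mul_sub, ← mul_assoc,
    HahnSeries.single_mul_single, one_mul]
  ring

/-- An arc in the domain of a rational map from affine space is algebraised. -/
theorem exists_approx {B : Type u} [CommRing B] [Algebra k B] [Algebra.FiniteType k B] {n : ℕ}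
    (g : MvPolynomial (Fin n) k) (β : B →ₐ[k] Localization.Away g) (y : Fin n → K⸨X⸩)
    (hg : MvPolynomial.aeval y g ≠ 0) (φ : B →ₐ[k] K⟦X⟧)
    (hcompat : ∀ (b : B) (P : MvPolynomial (Fin n) k) (m : ℕ), β b * algebraMap _ (Localization.Away g) (g ^ m) = algebraMap _ _ P →
      (φ b : K⸨X⸩) * MvPolynomial.aeval y (g ^ m) = MvPolynomial.aeval y P)
    (f : B) (hf : IsUnit (β f)) :
    ∃ ψ : B →ₐ[k] RatFunc K, ψ f ≠ 0 ∧
      ∀ b, ∃ w : K⟦X⟧, algebraMap (RatFunc K) K⸨X⸩ (ψ b) = w ∧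
        PowerSeries.constantCoeff w = PowerSeries.constantCoeff (φ b) := by
  classical
  obtain ⟨S, hS⟩ := Algebra.FiniteType.out (R := k) (A := B)
  have hrep : ∀ b, ∃ (P : MvPolynomial (Fin n) k) (m : ℕ),
      β b * algebraMap _ (Localization.Away g) (g ^ m) = algebraMap _ _ P := fun b => by
    obtain ⟨⟨P, ⟨_, m, rfl⟩⟩, h⟩ := IsLocalization.surj (Submonoid.powers g) (β b)
    exact ⟨P, m, h⟩
  choose P m hPm using hrep
  -- orders
  obtain ⟨eg, heg⟩ := exists_small (MvPolynomial.aeval y g)⁻¹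
  have hG : ∀ b, ∃ N : ℤ, ∀ y' : Fin n → K⸨X⸩, (∀ i, Small N (y' i - y i)) →
      MvPolynomial.aeval y' (g ^ m b) ≠ 0 →
      Small 1 (MvPolynomial.aeval y' (P b) / MvPolynomial.aeval y' (g ^ m b) - (φ b : K⸨X⸩)) := by
    intro b
    let G := MvPolynomial.aeval y (g ^ m b)
    have hG0 : G ≠ 0 := by simp [G, hg]
    obtain ⟨e, he⟩ := exists_small G⁻¹
    obtain ⟨N₁, h₁⟩ := exists_congr y (P b) (1 - e)
    obtain ⟨N₂, h₂⟩ := exists_congr y (g ^ m b) (max (1 - e) 0)
    refine ⟨max N₁ N₂, fun y' hy' hne => ?_⟩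
    have dP := h₁ y' fun i => (hy' i).mono (le_max_left _ _)
    have dG := h₂ y' fun i => (hy' i).mono (le_max_right _ _)
    have hu : Small 1 ((MvPolynomial.aeval y' (g ^ m b) - G) * G⁻¹) :=
      ((dG.mono (le_max_left _ _)).mul he).mono (by omega)
    obtain ⟨w, hw⟩ := hu
    have hwX : MvPolynomial.aeval y' (g ^ m b) * G⁻¹ = ((1 + PowerSeries.X * w : K⟦X⟧) : K⸨X⸩) := by
      rw [map_add, map_one, map_mul, HahnSeries.ofPowerSeries_X, ← hw]
      field_simp
      ring
    have hunit : IsUnit (1 + PowerSeries.X * w : K⟦X⟧) :=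
      PowerSeries.isUnit_iff_constantCoeff.mpr (by simp)
    obtain ⟨v, hv⟩ := hunit
    have hinv : Small e (MvPolynomial.aeval y' (g ^ m b))⁻¹ := by
      have h := (he.mul (small_coe (K := K) ((v⁻¹ : (K⟦X⟧)ˣ) : K⟦X⟧))).mono (add_zero e).ge
      have hv1 : (((v⁻¹ : (K⟦X⟧)ˣ) : K⟦X⟧) : K⸨X⸩) * (MvPolynomial.aeval y' (g ^ m b) * G⁻¹) = 1 := by
        rw [hwX, ← hv, ← map_mul, Units.inv_mul, map_one]
      convert! h using 1
      field_simp at hv1 ⊢
      linear_combination -hv1
    have key : MvPolynomial.aeval y' (P b) / MvPolynomial.aeval y' (g ^ m b) - (φ b : K⸨X⸩) =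
        (MvPolynomial.aeval y' (g ^ m b))⁻¹ * ((MvPolynomial.aeval y' (P b) - MvPolynomial.aeval y (P b)) +
          -((φ b : K⸨X⸩) * (MvPolynomial.aeval y' (g ^ m b) - G))) := by
      have h3 : (φ b : K⸨X⸩) * G = MvPolynomial.aeval y (P b) := hcompat b (P b) (m b) (hPm b)
      field_simp
      linear_combination -h3
    rw [key]
    refine (hinv.mul (dP.add ?_)).mono (by omega : (1 : ℤ) ≤ e + (1 - e))
    exact (((small_coe (φ b)).mul (dG.mono (le_max_left _ _))).mono (zero_add _).ge).neg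
  choose N hN using hG
  obtain ⟨N₀, h₀⟩ := exists_congr y g (1 - eg)
  let NN : ℤ := max N₀ (∑ b ∈ S, |N b|)
  have hNN : ∀ b ∈ S, N b ≤ NN := fun b hb => ((le_abs_self _).trans
    (Finset.single_le_sum (f := fun b => |N b|) (fun i _ => abs_nonneg _) hb)).trans (le_max_right _ _)
  choose r hr using fun i => exists_ratFunc (y i) NN
  let y' : Fin n → K⸨X⸩ := fun i => algebraMap (RatFunc K) K⸨X⸩ (r i)
  have hι : ∀ Q : MvPolynomial (Fin n) k,
      algebraMap (RatFunc K) K⸨X⸩ (MvPolynomial.aeval r Q) = MvPolynomial.aeval y' Q := fun Q => by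
    induction Q using MvPolynomial.induction_on with
    | C c => simp [coe_algebraMap]
    | add p q hp hq => simp [map_add, hp, hq]
    | mul_X p i hp => simp [map_mul, hp, y']
  have hg' : MvPolynomial.aeval y' g ≠ 0 := by
    intro h
    have h1 := (h₀ y' fun i => (hr i).mono (le_max_left _ _)).mul heg
    rw [h, zero_sub, neg_mul, mul_inv_cancel₀ hg, show 1 - eg + eg = (1 : ℤ) by ring] at h1
    have h2 : Small 1 (((1 : K⟦X⟧) : K⸨X⸩) - ((0 : K⟦X⟧) : K⸨X⸩)) := by simpa using h1.neg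
    simpa using Small.constantCoeff_eq h2
  have hr0 : MvPolynomial.aeval r g ≠ 0 := fun h => hg' (by rw [← hι, h, map_zero])
  let σ : Localization.Away g →ₐ[k] RatFunc K :=
    IsLocalization.liftAlgHom (M := Submonoid.powers g) (f := MvPolynomial.aeval r) (by
      rintro ⟨_, j, rfl⟩
      rw [map_pow]
      exact (isUnit_iff_ne_zero.mpr hr0).pow j)
  have hσ : ∀ Q, σ (algebraMap _ _ Q) = MvPolynomial.aeval r Q := fun Q => IsLocalization.lift_eq _ _
  let ψ : B →ₐ[k] RatFunc K := σ.comp β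
  refine ⟨ψ, (hf.map σ).ne_zero, fun b => ?_⟩
  have hb : b ∈ Algebra.adjoin k (S : Set B) := hS ▸ Algebra.mem_top
  induction hb using Algebra.adjoin_induction with
  | mem x hx =>
    have hne : MvPolynomial.aeval y' (g ^ m x) ≠ 0 := by simp [hg']
    obtain ⟨w, hw⟩ := hN x y' (fun i => (hr i).mono (hNN x hx)) hne
    have hψ : algebraMap (RatFunc K) K⸨X⸩ (ψ x) =
        MvPolynomial.aeval y' (P x) / MvPolynomial.aeval y' (g ^ m x) := by
      have h1 := congrArg (fun z => algebraMap (RatFunc K) K⸨X⸩ (σ z)) (hPm x)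
      simp only [map_mul, hσ] at h1
      rw [hι, hι] at h1
      rw [eq_div_iff hne]
      exact h1
    refine ⟨φ x + PowerSeries.X * w, ?_, by simp⟩
    rw [hψ, map_add, map_mul, HahnSeries.ofPowerSeries_X]
    linear_combination hw
  | algebraMap c =>
    refine ⟨φ (algebraMap k B c), ?_, rfl⟩
    rw [AlgHom.commutes, AlgHom.commutes, coe_algebraMap,
      HahnSeries.algebraMap_apply']
  | add a b _ _ ha hb =>
    obtain ⟨u, hu, hu'⟩ := ha
    obtain ⟨v, hv, hv'⟩ := hb
    exact ⟨u + v, by rw [map_add, map_add, map_add, hu, hv], by rw [map_add, map_add, map_add, hu', hv']⟩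
  | mul a b _ _ ha hb =>
    obtain ⟨u, hu, hu'⟩ := ha
    obtain ⟨v, hv, hv'⟩ := hb
    exact ⟨u * v, by rw [map_mul, map_mul, map_mul, hu, hv], by rw [map_mul, map_mul, map_mul, hu', hv']⟩

/-- A point is joined to a point off a divisor by an open piece of the line. -/
theorem exists_line_ring [Infinite K] {B : Type u} [CommRing B] [Algebra k B] [Algebra.FiniteType k B]
    (ψ : B →ₐ[k] RatFunc K) (χ : B → K) (f : B) (hf : ψ f ≠ 0)
    (hψ : ∀ b, ∃ w : K⟦X⟧, algebraMap (RatFunc K) K⸨X⸩ (ψ b) = w ∧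
      PowerSeries.constantCoeff w = χ b) :
    ∃ (h : K[X]) (ρ : B →ₐ[k] Localization.Away h) (h0 : IsUnit (Polynomial.evalRingHom 0 h))
      (h1 : IsUnit (Polynomial.evalRingHom 1 h)),
      (∀ b, IsLocalization.Away.lift h h0 (ρ b) = χ b) ∧
      IsLocalization.Away.lift h h1 (ρ f) ≠ 0 := by
  classical
  obtain ⟨S, hS⟩ := Algebra.FiniteType.out (R := k) (A := B)
  have hq : ∀ b, (ψ b).denom.eval 0 ≠ 0 ∧ (ψ b).num.eval 0 = (ψ b).denom.eval 0 * χ b := by
    intro b
    obtain ⟨w, hw, hw'⟩ := hψ b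
    have h1 : (((ψ b).num : K⟦X⟧)) = ((ψ b).denom : K⟦X⟧) * w := HahnSeries.ofPowerSeries_injective (Γ := ℤ) (R := K) (by
      rw [map_mul, ← coe_poly, ← coe_poly, ← hw, ← map_mul]
      exact congrArg _ (((eq_div_iff (RatFunc.algebraMap_ne_zero (RatFunc.denom_ne_zero _))).mp
        (RatFunc.num_div_denom (ψ b)).symm).symm.trans (mul_comm _ _)))
    have h2 := congrArg PowerSeries.constantCoeff h1
    simp only [map_mul, Polynomial.constantCoeff_coe, hw', Polynomial.coeff_zero_eq_eval_zero] at h2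
    refine ⟨fun h0 => ?_, h2⟩
    rw [h0, zero_mul] at h2
    obtain ⟨a, c, hac⟩ := RatFunc.isCoprime_num_denom (ψ b)
    have h3 := congrArg (Polynomial.eval 0) hac
    simp [h0, h2] at h3
  let h := ∏ b ∈ S, (ψ b).denom
  have hh0 : h.eval 0 ≠ 0 := by
    rw [Polynomial.eval_prod]
    exact Finset.prod_ne_zero_iff.mpr fun b _ => (hq b).1
  have hh : h ≠ 0 := fun e => hh0 (by rw [e, Polynomial.eval_zero])
  let j : Localization.Away h →ₐ[k] RatFunc K :=
    IsLocalization.liftAlgHom (M := Submonoid.powers h)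
      (f := IsScalarTower.toAlgHom k K[X] (RatFunc K)) (by
        rintro ⟨_, i, rfl⟩
        rw [map_pow]
        exact (isUnit_iff_ne_zero.mpr (RatFunc.algebraMap_ne_zero hh)).pow i)
  have hjA : ∀ p, j (algebraMap K[X] _ p) = algebraMap K[X] (RatFunc K) p := fun p =>
    IsLocalization.lift_eq _ _
  have hj : Function.Injective j := by
    refine (IsLocalization.lift_injective_iff _).mpr fun x y => ⟨fun e => ?_, fun e => ?_⟩
    · have := congrArg j e
      rwa [hjA, hjA] at this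
    · exact congrArg _ (RatFunc.algebraMap_injective K e)
  have hrange : ψ.range ≤ j.range := by
    rw [← Algebra.map_top, ← hS, AlgHom.map_adjoin, Algebra.adjoin_le_iff]
    rintro _ ⟨b, hb, rfl⟩
    obtain ⟨c, hc⟩ : (ψ b).denom ∣ h := Finset.dvd_prod_of_mem (fun b => (ψ b).denom) hb
    refine ⟨IsLocalization.mk' _ ((ψ b).num * c) (⟨h, Submonoid.mem_powers h⟩ : Submonoid.powers h), ?_⟩
    refine mul_right_cancel₀ (RatFunc.algebraMap_ne_zero hh) ?_
    show j _ * _ = _
    rw [← hjA, ← map_mul, IsLocalization.mk'_spec, hjA, hjA, hc, map_mul, map_mul, ← mul_assoc]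
    congr 1
    exact ((eq_div_iff (RatFunc.algebraMap_ne_zero (RatFunc.denom_ne_zero _))).mp
      (RatFunc.num_div_denom (ψ b)).symm).symm
  let ρ₀ : B →ₐ[k] Localization.Away h := (AlgEquiv.ofInjective j hj).symm.toAlgHom.comp
    ((Subalgebra.inclusion hrange).comp ψ.rangeRestrict)
  have hρ₀ : ∀ b, j (ρ₀ b) = ψ b := fun b =>
    congrArg Subtype.val ((AlgEquiv.ofInjective j hj).apply_symm_apply _)
  obtain ⟨⟨pf, ⟨_, mf, rfl⟩⟩, hpf⟩ := IsLocalization.surj (Submonoid.powers h) (ρ₀ f)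
  have hpf0 : pf ≠ 0 := by
    rintro rfl
    have e := congrArg j hpf
    rw [map_mul, hρ₀, hjA, hjA, map_zero, map_pow, mul_eq_zero] at e
    exact e.elim hf (pow_ne_zero _ (RatFunc.algebraMap_ne_zero hh))
  obtain ⟨c, hc⟩ : ∃ c : K, (Polynomial.X * h * pf).eval c ≠ 0 := by
    by_contra! hall
    exact mul_ne_zero (mul_ne_zero Polynomial.X_ne_zero hh) hpf0
      (Polynomial.funext fun r => by simp [hall r])
  simp only [Polynomial.eval_mul, Polynomial.eval_X, mul_ne_zero_iff] at hc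
  let σ : K[X] →ₐ[k] K[X] := (Polynomial.aeval (Polynomial.C c * Polynomial.X)).restrictScalars k
  have hσ : ∀ (p : K[X]) (a : K), (σ p).eval a = p.eval (c * a) := fun p a => by
    show (Polynomial.aeval (Polynomial.C c * Polynomial.X) p).eval a = _
    rw [← Polynomial.comp_eq_aeval, Polynomial.eval_comp]
    simp
  let σ' : Localization.Away h →ₐ[k] Localization.Away (σ h) :=
    IsLocalization.liftAlgHom (M := Submonoid.powers h)
      (f := (IsScalarTower.toAlgHom k K[X] (Localization.Away (σ h))).comp σ) (by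
        rintro ⟨_, i, rfl⟩
        rw [map_pow]
        exact (IsLocalization.map_units _ (⟨σ h, Submonoid.mem_powers _⟩ : Submonoid.powers (σ h))).pow i)
  have hσ' : ∀ p, σ' (algebraMap K[X] _ p) = algebraMap K[X] (Localization.Away (σ h)) (σ p) := fun p =>
    IsLocalization.lift_eq _ _
  have u0 : IsUnit (Polynomial.evalRingHom 0 (σ h)) := by
    rw [Polynomial.coe_evalRingHom, hσ, mul_zero]; exact isUnit_iff_ne_zero.mpr hh0
  have u1 : IsUnit (Polynomial.evalRingHom 1 (σ h)) := by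
    rw [Polynomial.coe_evalRingHom, hσ, mul_one]; exact isUnit_iff_ne_zero.mpr hc.1.2
  refine ⟨σ h, σ'.comp ρ₀, u0, u1, fun b => ?_, fun e => hc.2 ?_⟩
  · obtain ⟨⟨p, ⟨_, i, rfl⟩⟩, hp⟩ := IsLocalization.surj (Submonoid.powers h) (ρ₀ b)
    have e1 := congrArg (fun z => IsLocalization.Away.lift (σ h) u0 (σ' z)) hp
    simp only [map_mul, hσ', IsLocalization.Away.lift_eq, Polynomial.coe_evalRingHom, hσ, mul_zero,
      Polynomial.eval_pow] at e1
    have e2 := congrArg j hp
    rw [map_mul, hρ₀, hjA, hjA, ← RatFunc.num_div_denom (ψ b), div_mul_eq_mul_div,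
      div_eq_iff (RatFunc.algebraMap_ne_zero (RatFunc.denom_ne_zero _)), ← map_mul, ← map_mul] at e2
    have e3 := congrArg (Polynomial.eval 0) (RatFunc.algebraMap_injective K e2)
    simp only [Polynomial.eval_mul, Polynomial.eval_pow, (hq b).2] at e3
    refine mul_right_cancel₀ (pow_ne_zero i hh0) (e1.trans ?_)
    exact mul_left_cancel₀ (hq b).1 (by linear_combination -e3)
  · have e1 := congrArg (fun z => IsLocalization.Away.lift (σ h) u1 (σ' z)) hpf
    simp only [map_mul, hσ', IsLocalization.Away.lift_eq, Polynomial.coe_evalRingHom, hσ, mul_one] at e1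
    rw [← e1]
    exact mul_eq_zero_of_left e _

end Groth.Agent.REqArc95
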